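import Cfsg.Agent.OD.Pre
import Cfsg.Agent.H6.ThS.C
set_option autoImplicit false
set_option maxRecDepth 100000
set_option Elab.async false
set_option linter.all false
namespace CfH6.ThS
open CfH6
noncomputable def p13X : ℕ := (nat_lit 0xd4502826606f23a5917d92184ed451b8fdd6281d29b3eefea0fb6706f56f8d27013ff00c99ebbb57a7e7d5d337dce41d9f7b05ce356810ca2100a1593050234d3f9f34c713cd33b381de0b25f0cd19b8f52048563b55bd0ba5844edbc13695b0c3cbb9304ecb9ba68369fe255c743096516500fd59672483c4c22a0e066ce5c57bf375ccadcfb8f836fc4a9890e860b723fb16fa4f5f17de7908cf8b7e3f83a73b2883a4544de77d2b0f320c6237c71abc68afda88495cb8844e5a8349db2ec6e86f77b141e86c87ac1520f891a54da6b0c810e7caf356a6fb246e6799a9e10bc81ec2fd5600bab191bf0f34d52cb1a1296ff762549629e3ba121cd5dc12fc1760be414cf210a7335922de1e9eedefe70c739b158471c0f922a5476a783a31feb98b61ec5acb2cb423d47889bddc09e334f3bf30f5dbdafeadc74314c4b2b4d4caa454aaec314f68d93b7f81973f86d2e8c659aca360c9389324a8357e0f81244dee4245035094294952c956d11dba73a834a36f00000000000000000000000000020000000000000000000000000000000000)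
end CfH6.ThS
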