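import Cfsg.Agent.OD.Pre
import Cfsg.Agent.H6.ThS.p13D
set_option autoImplicit false
set_option maxRecDepth 100000
set_option Elab.async false
set_option linter.all false
namespace CfH6.ThS
open CfH6
def p13L : List CL := [⟨0, 13, [0, 1, 6, 4, 5, 2], nat_lit 0xb000a00090008000700060005000400030002000100000000, 1⟩]
def p13T : List (ℕ × ℕ) := [(0, nat_lit 0xc0b0a090807060504030201)]
def p13p0 : List (ℕ × ℕ) := [(9, 0), (10, 2), (1, 5), (1, 8), (1, 0)]
theorem p13b0 : (ThM.ok p13X && Nat.beq (slp ThM.mm ThM.PM.one p13p0 ([] ++ ThM.ms) (ThM.PM.chkS ThM.mm p13X p13L p13T)) 0 &&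
  Nat.beq (p13L.map CL.m).prod 13) = true := by decide +kernel
end CfH6.ThS
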