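import Cfsg.Agent.OD.Pre
import Cfsg.Agent.H6.ThS.C
set_option autoImplicit false
set_option maxRecDepth 100000
set_option Elab.async false
set_option linter.all false
namespace CfH6.ThS
open CfH6
noncomputable def p19X : ℕ := (nat_lit 0xc3b99a35f4a6f44023185769d6b43387410a98c1eeb3186c8966745d0d13890ecb851349b626b6237b4ae0545bc2fefd01c087d9fe376756a2279975dd401ddafcf13ef179d7529a369e140a54b3da52197cd26e9cf37a67fd1654419df1dfe64db378af75202cd6abc91eb1e6a4fe66e227ae28637bb5fc3dc67f2c3b0fe282428cfa58e292835694d2c98875c98da2a38322bcd8a366967497d3421a532686b89d11f72a6c36f1d5ff42e9171693be7fc1518a515f77e886a4e7c2d513de0c36825f593a1f61910815223469c9e36c23d92f4bd24a1a2906b6b25eb4e782a011ad3f8d3cf6f2a60764c55617cd0eb45ef09c523554f780907bd1c30bd9db8725033b3598237e7e16457410a16b044068818e1b29b914cd2b0b31d988705233daf38a9793e3e1382df9c6d9c63b965dc2521e357bfb0fa00a5edd55b9c2d89fbbc4b667221a21950b7d8368a8f7b0d5a68892ce12342dcd50e6154c307b73ef6a41c5a9b59291234c176e3c3eaccd0e32c9654c38f5829031e7da58a58b502fa94af51d9a04a90d2d8382b26d9b022e76d034aec1ad3b80e9a0a46c6a0b8d573ec747c90ada958f52ea3cb696d689ac2576b9075368bb27c3ecec98770866ba2821f453b091de789996867cd62906f79cf042b16627da46063a439f921facf22cef8cc8a5eb34f95f10299f1a50a19f08c3a06d8a42741bd3de4a46149b75a4bac83a61fdb3ecb953b6ff996e6a042e38e96aa0b231e9bf8dd2353263cface530dbb97f64aa880274f506e82e7300000000000000000000000000000000000002000000000000000000000000)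
end CfH6.ThS
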