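import Cfsg.Agent.OD.Pre
import Cfsg.Agent.H6.ThS.p19D
set_option autoImplicit false
set_option maxRecDepth 100000
set_option Elab.async false
set_option linter.all false
namespace CfH6.ThS
open CfH6
def p19L : List CL := [⟨0, 19, [0, 1, 2, 10, 11, 4, 3], nat_lit 0x110010000f000e000d000c000b000a00090008000700060005000400030002000100000000, 1⟩]
def p19T : List (ℕ × ℕ) := [(0, nat_lit 0x1211100f0e0d0c0b0a090807060504030201)]
def p19p0 : List (ℕ × ℕ) := [(9, 0), (10, 2), (1, 5), (2, 7), (2, 9), (12, 0), (3, 4), (0, 3), (0, 0), (0, 3)]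
theorem p19b0 : (ThM.ok p19X && Nat.beq (slp ThM.mm ThM.PM.one p19p0 ([] ++ ThM.ms) (ThM.PM.chkS ThM.mm p19X p19L p19T)) 0 &&
  Nat.beq (p19L.map CL.m).prod 19) = true := by decide +kernel
end CfH6.ThS
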