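import Cfsg.Agent.OD.Pre
import Cfsg.Agent.H6.ThS.p2D
set_option autoImplicit false
set_option maxRecDepth 100000
set_option Elab.async false
set_option linter.all false
namespace CfH6.ThS
open CfH6
def p2p0 : List (ℕ × ℕ) := [(9, 0), (10, 2), (4, 0), (2, 6), (3, 8), (3, 10), (13, 0), (6, 16), (7, 3), (5, 7), (1, 7), (7, 5), (2, 7), (1, 7), (7, 7), (0, 0), (17, 26), (23, 0), (1, 20), (19, 29), (24, 0), (0, 1), (3, 0), (26, 3), (7, 0), (7, 1), (8, 0), (19, 18), (0, 16), (13, 0), (40, 10), (9, 0), (6, 0), (17, 0), (0, 4), (6, 0), (22, 25), (21, 0), (15, 11), (23, 0), (0, 2), (0, 0), (0, 0), (0, 0), (0, 3), (8, 0), (25, 21), (38, 34), (0, 35), (33, 0), (3, 28), (4, 0), (36, 0), (0, 3), (0, 0), (0, 0), (0, 0), (0, 3), (9, 0)]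
theorem p2b0 : Nat.beq (slp ThM.mm ThM.PM.one p2p0 ([] ++ ThM.ms) (outs ThM.PM.one [(23, p2o0), (13, p2o1), (0, p2o2)])) 0 = true := by decide +kernel
end CfH6.ThS
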