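import Cfsg.Agent.OD.Pre
import Cfsg.Agent.H6.ThS.p2D
set_option autoImplicit false
set_option maxRecDepth 100000
set_option Elab.async false
set_option linter.all false
namespace CfH6.ThS
open CfH6
def p2L : List CL := [⟨0, 4, [0, 2], nat_lit 0x2010100000000, 1⟩,
  ⟨4, 2, [0], nat_lit 0x400000000000000000000, 1⟩,
  ⟨6, 2, [1], nat_lit 0x60000000000000000000000000000, 1⟩,
  ⟨8, 2, [4], nat_lit 0x8000000000000000000000000000000000000, 1⟩,
  ⟨10, 2, [0], nat_lit 0xa00000000000000000000000000000000000000000000, 1⟩,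
  ⟨12, 2, [1], nat_lit 0xc0000000000000000000000000000000000000000000000000000, 1⟩,
  ⟨14, 2, [1], nat_lit 0xe000000000000000000000000000000000000000000000000000000000000, 1⟩,
  ⟨16, 2, [0], nat_lit 0x1000000000000000000000000000000000000000000000000000000000000000000000, 1⟩,
  ⟨18, 2, [0], nat_lit 0x120000000000000000000000000000000000000000000000000000000000000000000000000000, 1⟩,
  ⟨20, 2, [3], nat_lit 0x14000000000000000000000000000000000000000000000000000000000000000000000000000000000000, 1⟩,
  ⟨22, 2, [5], nat_lit 0x1600000000000000000000000000000000000000000000000000000000000000000000000000000000000000000000, 1⟩,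
  ⟨24, 2, [0], nat_lit 0x180000000000000000000000000000000000000000000000000000000000000000000000000000000000000000000000000000, 1⟩,
  ⟨26, 2, [0], nat_lit 0x1a000000000000000000000000000000000000000000000000000000000000000000000000000000000000000000000000000000000000, 1⟩,
  ⟨28, 2, [0], nat_lit 0x1c00000000000000000000000000000000000000000000000000000000000000000000000000000000000000000000000000000000000000000000, 1⟩]
def p2T : List (ℕ × ℕ) := [(44, nat_lit 0x2030001), (25, nat_lit 0x40503010200), (39, nat_lit 0x607050403020100), (0, nat_lit 0x8090706050403020100), (1, nat_lit 0xa0b09080706050403010200), (3, nat_lit 0xc0d0b0a09080706050403020100), (4, nat_lit 0xe0f0d0c0b0a09080706050403020100), (5, nat_lit 0x10110f0e0d0c0b0a09080706050403020100), (6, nat_lit 0x121311100f0e0d0c0b0a09080706050403020100), (9, nat_lit 0x1415131211100f0e0d0c0b0a09080706050403020100), (11, nat_lit 0x16171514131211100f0e0d0c0b0a09080706050403020100), (16, nat_lit 0x181917161514131211100f0e0d0c0b0a09080706050403020100), (19, nat_lit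 0x1a1b191817161514131211100f0e0d0c0b0a09080706050403020100), (22, nat_lit 0x1c1d1b1a191817161514131211100f0e0d0c0b0a09080706050403020100)]
def p2p1 : List (ℕ × ℕ) := [(0, 1), (2, 1), (1, 1), (0, 4), (5, 1), (7, 6), (8, 1), (6, 0), (3, 6), (6, 3), (6, 2), (6, 3), (4, 6), (6, 4), (1, 6), (4, 5), (4, 5), (0, 0), (0, 1), (5, 8), (0, 0), (0, 1), (0, 0), (0, 3), (12, 9), (0, 0), (0, 1), (0, 0), (0, 3), (13, 13), (0, 14), (15, 18), (0, 17), (0, 0), (0, 1), (16, 11), (17, 7), (18, 6), (2, 19), (0, 2), (0, 4), (22, 22), (0, 23), (0, 24), (6, 9), (0, 7), (0, 11), (28, 12), (0, 29), (0, 12), (0, 13), (0, 16), (10, 15), (0, 16), (19, 16), (0, 20), (0, 18), (22, 22), (34, 29), (40, 23), (25, 29), (0, 42), (24, 24)]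
theorem p2b1 : (ThM.ok p2X && Nat.beq (slp ThM.mm ThM.PM.one p2p1 ([p2o0, p2o1, p2o2] ++ ThM.ms) (ThM.PM.chkS ThM.mm p2X p2L p2T)) 0 &&
  Nat.beq (p2L.map CL.m).prod 32768) = true := by decide +kernel
end CfH6.ThS
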