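import Cfsg.Agent.OD.Pre
import Cfsg.Agent.H6.ThS.p3D
set_option autoImplicit false
set_option maxRecDepth 100000
set_option Elab.async false
set_option linter.all false
namespace CfH6.ThS
open CfH6
def p3p0 : List (ℕ × ℕ) := [(9, 0), (10, 2), (4, 0), (2, 6), (3, 8), (3, 10), (13, 0), (6, 16), (7, 3), (5, 7), (1, 7), (7, 5), (2, 7), (1, 7), (6, 1), (0, 5), (0, 6), (0, 3), (0, 8), (0, 0), (0, 0), (0, 0), (0, 3), (24, 33), (30, 0), (0, 33), (26, 36), (30, 0), (4, 0), (5, 31), (34, 3), (0, 4), (2, 0), (43, 6), (9, 6), (10, 0), (3, 7), (8, 0), (9, 0), (3, 0), (8, 0), (7, 0), (13, 0), (10, 0), (11, 0), (12, 0), (13, 0), (18, 0), (22, 0), (37, 38), (0, 38), (0, 40), (0, 45), (0, 45), (0, 43), (0, 42), (0, 45), (0, 46), (0, 51), (0, 48), (0, 53), (0, 54), (0, 13), (32, 34), (38, 31), (30, 0), (2, 0), (33, 0), (4, 0), (34, 0), (34, 0), (36, 0), (46, 0), (40, 0), (10, 0), (11, 0), (47, 0), (69, 67), (0, 68), (0,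 70), (0, 68), (0, 68), (0, 73), (0, 73), (0, 74), (0, 71), (0, 76), (0, 76), (0, 75), (0, 78), (0, 13)]
theorem p3b0 : Nat.beq (slp ThM.mm ThM.PM.one p3p0 ([] ++ ThM.ms) (outs ThM.PM.one [(84, p3o0), (83, p3o1), (82, p3o2), (81, p3o3), (79, p3o4), (78, p3o5), (77, p3o6), (68, p3o7), (65, p3o8), (62, p3o9), (59, p3o10), (58, p3o11), (57, p3o12), (56, p3o13), (55, p3o14), (28, p3o15), (27, p3o16), (0, p3o17)])) 0 = true := by decide +kernel
end CfH6.ThS
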