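import Cfsg.Agent.OD.Pre
import Cfsg.Agent.H6.ThS.p3D
set_option autoImplicit false
set_option maxRecDepth 100000
set_option Elab.async false
set_option linter.all false
namespace CfH6.ThS
open CfH6
def p3p1 : List (ℕ × ℕ) := [(12, 9), (14, 0), (14, 0), (14, 0), (12, 0), (17, 0), (16, 0), (18, 0), (19, 0), (21, 0), (18, 0), (27, 0), (21, 0), (19, 19), (0, 17), (0, 16), (0, 16), (0, 19), (0, 21), (0, 22), (0, 24), (0, 23), (0, 23), (0, 27), (0, 24), (0, 31), (0, 13), (43, 41), (44, 0), (40, 0), (40, 0), (43, 0), (48, 0), (42, 0), (46, 0), (46, 0), (46, 0), (53, 0), (47, 0), (52, 0), (46, 41), (0, 46), (0, 46), (0, 49), (0, 47), (0, 50), (0, 47), (0, 49), (0, 50), (0, 52), (0, 55), (0, 57), (0, 58), (0, 13), (69, 69), (70, 1), (73, 29), (0, 30), (4, 0), (3, 66), (5, 4), (6, 0), (2, 6), (6, 0), (6, 2), (6, 1), (6, 1), (2, 6), (3, 0), (0, 4), (0, 6), (6, 4), (8, 6), (0, 9), (0, 6)]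
theorem p3b1 : Nat.beq (slp ThM.mm ThM.PM.one p3p1 ([p3o0, p3o1, p3o2, p3o3, p3o4, p3o5, p3o6, p3o7, p3o8, p3o9, p3o10, p3o11, p3o12, p3o13, p3o14, p3o15, p3o16, p3o17] ++ ThM.ms) (outs ThM.PM.one [(12, p3o18), (4, p3o19), (3, p3o20), (0, p3o21)])) 0 = true := by decide +kernel
end CfH6.ThS
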