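import Cfsg.Agent.OD.Pre
import Cfsg.Agent.H6.ThS.p3D
set_option autoImplicit false
set_option maxRecDepth 100000
set_option Elab.async false
set_option linter.all false
namespace CfH6.ThS
open CfH6
def p3L : List CL := [⟨0, 3, [1, 2], nat_lit 0x100000000, 1⟩,
  ⟨3, 9, [0, 1, 3, 7, 2], nat_lit 0x800070006010500050104000400030000000000000000, 1⟩,
  ⟨12, 3, [2, 3], nat_lit 0xd000c0000000000000000000000000000000000000000000000000000, 1⟩,
  ⟨15, 3, [0, 3], nat_lit 0x10000f0000000000000000000000000000000000000000000000000000000000000000, 1⟩,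
  ⟨18, 3, [0, 2], nat_lit 0x1300120000000000000000000000000000000000000000000000000000000000000000000000000000, 1⟩,
  ⟨21, 3, [1, 2], nat_lit 0x1600150000000000000000000000000000000000000000000000000000000000000000000000000000000000000000, 1⟩,
  ⟨24, 3, [0, 1], nat_lit 0x1900180000000000000000000000000000000000000000000000000000000000000000000000000000000000000000000000000000, 1⟩,
  ⟨27, 3, [1, 3], nat_lit 0x1c001b0000000000000000000000000000000000000000000000000000000000000000000000000000000000000000000000000000000000000000, 1⟩,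
  ⟨30, 3, [1, 7], nat_lit 0x1f001e0000000000000000000000000000000000000000000000000000000000000000000000000000000000000000000000000000000000000000000000000000, 1⟩]
def p3T : List (ℕ × ℕ) := [(22, nat_lit 0x201), (19, nat_lit 0x608030b0a09070504020100), (21, nat_lit 0xc0e0d0b040509070a080603020100), (0, nat_lit 0xf11100e0d0c0b0a05090706080403020100), (2, nat_lit 0x12141311100f0e0d0c0b0a09080706050403020100), (4, nat_lit 0x15171614131211100f0e0d0c0b0a09080706050403020100), (7, nat_lit 0x181a1917161514131211100f0e0d0c0b0a05090706080403020100), (10, nat_lit 0x1b1d1c1a191817161514131211100f0e0d0c0b0a09080706050403020100), (14, nat_lit 0x1e201f1d1c1b1a191817161514131211100f0e0d0c0b0a08050706090403020100)]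
def p3p2 : List (ℕ × ℕ) := [(0, 1), (1, 3), (2, 5), (4, 3), (4, 1), (0, 7), (0, 8), (0, 4), (5, 11), (0, 6), (0, 11), (0, 12), (12, 8), (0, 10), (0, 12), (15, 14), (0, 17), (0, 13), (20, 20), (0, 21), (21, 22), (0, 18)]
theorem p3b2 : (ThM.ok p3X && Nat.beq (slp ThM.mm ThM.PM.one p3p2 ([p3o18, p3o19, p3o20, p3o21] ++ ThM.ms) (ThM.PM.chkS ThM.mm p3X p3L p3T)) 0 &&
  Nat.beq (p3L.map CL.m).prod 59049) = true := by decide +kernel
end CfH6.ThS
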