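import Cfsg.Agent.OD.Pre
import Cfsg.Agent.H6.ThS.C
set_option autoImplicit false
set_option maxRecDepth 100000
set_option Elab.async false
set_option linter.all false
namespace CfH6.ThS
open CfH6
noncomputable def p31X : ℕ := (nat_lit 0x35327df2016f91a1a0e0dbde34467a28d3f6a5c554167d24bfc92dbb293d1e87fae25270ae52b16bdc2af12f249c254b6bec2046a5875bcbfe492db61f60422bf5a4a7f5d40caf7f804375af1295f2718789fbacb946b372ab3108c91ba239a3bc0b8f3f17e1eb193f8745c1ea4fa3375950f3f76db715a0752ec0c268d91fec8f53eb12aafdebd03e79383babb903c1a50d82b54b91a302969f200ce2f4a4ee61c70e48292758ef5a55d69e12d6689e7aba172361ceaea1415af78a1f6870a43d8abe6b84ba67a3858f506f1cf28a5991f02f464de09a33893533c84fdf62ecdfe20c574a963d4f1182478256bc6c5250b82c4bea64dd07b6752319d9f035ccb21e4504246eb9fead114da3e6d0ed69bebe34bee6c7bdc9fe24d07b242c9b084619a4959904c133d592e67cdfef86230d13a3bb49050ebb811232019c634624be73187ede59e24d17c31eea8f27b9f99d20926859b5a6954aefec34482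0593b0e6aed8381f447aa15eca7d1b95992dd0602101b3dcd0b3b96ea5ca7235d60df42e76cefa4cc317bd0a64a5c72e64ccfe75821f6fa0ddd5cc2e3e0c6d7c89ee89406699798f228b69d60c3b1a322ae2e06ebd90884e02ef913b758ae22886cefc8e35ef9cd1d5733e7cf725c86f5c77a02eb9bde0d1ac7a3c325a1e8cd9baef5e1e55479bec1bbd9a0bd50a030788b6b6a24f05c9e0ea733cc54919977ce86dec658e48e834b659a01d711c0be698f79188040f19bb4ba73dbb4e1a9fdb90d6586482005f8e43ffef9177c8588ec54d5b9c5f0c380608aaf21827826206b7bb8e70946b8b3e322b83fbab31606720cadfdc09058c0cc77ec03fca4995253dedb629f85f4edb844f03d3210edf7da68a737f754f92edbac22203668759a96aa34c8b80a9113a43f7cce8a8a089766464b54e87e65c549a23484787e51760ee6b3fd1285eb752fc921cc55c818d8a11909b99f1b7f7a0d4d09e8d9820bb0dbd5bcbef5cc73d8b4ba3d69de41bd067beb1c1f5aabe63e39cef4d07e4e87de51c93d8502b6403100106dc3efccd6f73e31de5a20c892d9fe5ec68d9ce283df4fb9bf9e814a2acfa4b79e643f031e4bbca33c504785e4fc696c7a531eac49ebe8ea22a94b885b5244fca193d55bde8c5059e6d95b43140a2cdef55410e87a3df386a5c86dd0b1d95ed8a51742106b9cc7f7d7d14a3669d1e0a1a87188df2f9750dcb7778bc3b6b1f874c77534ccb95b8f2eca560cdefd79a3a6b27c2f870effa6133818258272e22eb554a52c42703c3edd3d97e8f18ff3d36842ebbe4d514e34e16c0aad00000000000000000000000040000000000000000000000000000000000000)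
end CfH6.ThS
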