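import Cfsg.Agent.OD.Pre
import Cfsg.Agent.H6.ThS.p5D
set_option autoImplicit false
set_option maxRecDepth 100000
set_option Elab.async false
set_option linter.all false
namespace CfH6.ThS
open CfH6
def p5p0 : List (ℕ × ℕ) := [(9, 0), (10, 2), (4, 0), (2, 6), (3, 8), (3, 10), (13, 0), (6, 16), (7, 3), (5, 7), (1, 7), (7, 5), (2, 7), (1, 7), (2, 2), (0, 1), (0, 2), (0, 3), (0, 11), (0, 0), (0, 1), (0, 0), (22, 32), (33, 0), (25, 34), (31, 0), (29, 3), (1, 0), (2, 0), (3, 37), (5, 3), (6, 33), (36, 9), (0, 10), (2, 0), (4, 4), (12, 0), (13, 0), (8, 0), (9, 0), (16, 0), (12, 0), (7, 0), (15, 0), (13, 0), (17, 0), (16, 0), (17, 0), (19, 0), (25, 0), (42, 40), (0, 41), (0, 43), (0, 42), (0, 47), (0, 45), (0, 48), (0, 49), (0, 44), (0, 52), (0, 49), (0, 54), (0, 53), (0, 53), (0, 51), (0, 15), (33, 35), (36, 39), (44, 0), (35, 0), (36, 0), (37, 0), (42, 0), (49, 0), (7, 0), (40, 0), (9, 0), (42, 0), (50, 0),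 (44, 0), (52, 0), (57, 0), (68, 69), (0, 71), (0, 76), (0, 75), (0, 76), (0, 77), (0, 74), (0, 81), (0, 80), (0, 77), (0, 82), (0, 85), (0, 87), (0, 82), (0, 87), (0, 15), (67, 63), (71, 0)]
theorem p5b0 : Nat.beq (slp ThM.mm ThM.PM.one p5p0 ([] ++ ThM.ms) (outs ThM.PM.one [(93, p5o0), (92, p5o1), (91, p5o2), (90, p5o3), (89, p5o4), (88, p5o5), (87, p5o6), (86, p5o7), (78, p5o8), (76, p5o9), (71, p5o10), (70, p5o11), (69, p5o12), (66, p5o13), (34, p5o14), (33, p5o15), (2, p5o16), (0, p5o17)])) 0 = true := by decide +kernel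
end CfH6.ThS
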