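import Cfsg.Agent.OD.Pre
import Cfsg.Agent.H6.ThS.p5D
set_option autoImplicit false
set_option maxRecDepth 100000
set_option Elab.async false
set_option linter.all false
namespace CfH6.ThS
open CfH6
def p5L : List CL := [⟨0, 5, [0, 1, 4], nat_lit 0x30002000100000000, 1⟩,
  ⟨5, 5, [0, 3, 4], nat_lit 0x8000700060005000000000000000000000000, 1⟩,
  ⟨10, 5, [0, 6, 1], nat_lit 0xd000c000b000a00000000000000000000000000000000000000000000, 1⟩]
def p5T : List (ℕ × ℕ) := [(5, nat_lit 0x4030201), (8, nat_lit 0x5090807060403020100), (0, nat_lit 0xa0e0d0c0b09080706050403020100)]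
def p5p1 : List (ℕ × ℕ) := [(12, 17), (12, 0), (12, 0), (15, 0), (17, 0), (14, 0), (15, 0), (19, 0), (18, 0), (20, 0), (22, 0), (21, 0), (27, 0), (15, 17), (0, 14), (0, 21), (0, 21), (0, 21), (0, 22), (0, 21), (0, 25), (0, 24), (0, 27), (0, 26), (0, 25), (0, 32), (0, 31), (0, 29), (0, 15), (45, 45), (44, 0), (0, 45), (1, 3), (41, 2), (0, 4), (4, 1), (3, 4), (5, 2), (1, 7), (6, 4), (6, 4), (6, 0), (1, 1), (0, 0), (4, 2), (0, 3), (0, 7), (7, 9), (0, 11), (5, 0), (0, 3), (0, 4)]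
theorem p5b1 : (ThM.ok p5X && Nat.beq (slp ThM.mm ThM.PM.one p5p1 ([p5o0, p5o1, p5o2, p5o3, p5o4, p5o5, p5o6, p5o7, p5o8, p5o9, p5o10, p5o11, p5o12, p5o13, p5o14, p5o15, p5o16, p5o17] ++ ThM.ms) (ThM.PM.chkS ThM.mm p5X p5L p5T)) 0 &&
  Nat.beq (p5L.map CL.m).prod 125) = true := by decide +kernel
end CfH6.ThS
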