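import Cfsg.Agent.OD.Pre
import Cfsg.Agent.H6.ThS.p5_0
import Cfsg.Agent.H6.ThS.p5_1
set_option autoImplicit false
set_option maxRecDepth 100000
set_option Elab.async false
set_option linter.all false
namespace CfH6.ThS
open CfH6
theorem p5h0 : ∀ c ∈ [p5o0, p5o1, p5o2, p5o3, p5o4, p5o5, p5o6, p5o7, p5o8, p5o9, p5o10, p5o11, p5o12, p5o13, p5o14, p5o15, p5o16, p5o17], InR ThM.ok ThM.sem ThM.φ.range c := by
  have := ThM.D.slp_outs (forall_app (forall_nil) cols) _ [(93, p5o0), (92, p5o1), (91, p5o2), (90, p5o3), (89, p5o4), (88, p5o5), (87, p5o6), (86, p5o7), (78, p5o8), (76, p5o9), (71, p5o10), (70, p5o11), (69, p5o12), (66, p5o13), (34, p5o14), (33, p5o15), (2, p5o16), (0, p5o17)] p5b0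
  simp only [List.map_cons, List.map_nil] at this
  exact this
theorem ip5o0 : InR ThM.ok ThM.sem ThM.φ.range p5o0 := p5h0 _ (List.Mem.head _)
theorem ip5o1 : InR ThM.ok ThM.sem ThM.φ.range p5o1 := p5h0 _ (List.Mem.tail _ (List.Mem.head _))
theorem ip5o2 : InR ThM.ok ThM.sem ThM.φ.range p5o2 := p5h0 _ (List.Mem.tail _ (List.Mem.tail _ (List.Mem.head _)))
theorem ip5o3 : InR ThM.ok ThM.sem ThM.φ.range p5o3 := p5h0 _ (List.Mem.tail _ (List.Mem.tail _ (List.Mem.tail _ (List.Mem.head _))))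
theorem ip5o4 : InR ThM.ok ThM.sem ThM.φ.range p5o4 := p5h0 _ (List.Mem.tail _ (List.Mem.tail _ (List.Mem.tail _ (List.Mem.tail _ (List.Mem.head _)))))
theorem ip5o5 : InR ThM.ok ThM.sem ThM.φ.range p5o5 := p5h0 _ (List.Mem.tail _ (List.Mem.tail _ (List.Mem.tail _ (List.Mem.tail _ (List.Mem.tail _ (List.Mem.head _))))))
theorem ip5o6 : InR ThM.ok ThM.sem ThM.φ.range p5o6 := p5h0 _ (List.Mem.tail _ (List.Mem.tail _ (List.Mem.tail _ (List.Mem.tail _ (List.Mem.tail _ (List.Mem.tail _ (List.Mem.head _)))))))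
theorem ip5o7 : InR ThM.ok ThM.sem ThM.φ.range p5o7 := p5h0 _ (List.Mem.tail _ (List.Mem.tail _ (List.Mem.tail _ (List.Mem.tail _ (List.Mem.tail _ (List.Mem.tail _ (List.Mem.tail _ (List.Mem.head _))))))))
theorem ip5o8 : InR ThM.ok ThM.sem ThM.φ.range p5o8 := p5h0 _ (List.Mem.tail _ (List.Mem.tail _ (List.Mem.tail _ (List.Mem.tail _ (List.Mem.tail _ (List.Mem.tail _ (List.Mem.tail _ (List.Mem.tail _ (List.Mem.head _)))))))))
theorem ip5o9 : InR ThM.ok ThM.sem ThM.φ.range p5o9 := p5h0 _ (List.Mem.tail _ (List.Mem.tail _ (List.Mem.tail _ (List.Mem.tail _ (List.Mem.tail _ (List.Mem.tail _ (List.Mem.tail _ (List.Mem.tail _ (List.Mem.tail _ (List.Mem.head _))))))))))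
theorem ip5o10 : InR ThM.ok ThM.sem ThM.φ.range p5o10 := p5h0 _ (List.Mem.tail _ (List.Mem.tail _ (List.Mem.tail _ (List.Mem.tail _ (List.Mem.tail _ (List.Mem.tail _ (List.Mem.tail _ (List.Mem.tail _ (List.Mem.tail _ (List.Mem.tail _ (List.Mem.head _)))))))))))
theorem ip5o11 : InR ThM.ok ThM.sem ThM.φ.range p5o11 := p5h0 _ (List.Mem.tail _ (List.Mem.tail _ (List.Mem.tail _ (List.Mem.tail _ (List.Mem.tail _ (List.Mem.tail _ (List.Mem.tail _ (List.Mem.tail _ (List.Mem.tail _ (List.Mem.tail _ (List.Mem.tail _ (List.Mem.head _))))))))))))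
theorem ip5o12 : InR ThM.ok ThM.sem ThM.φ.range p5o12 := p5h0 _ (List.Mem.tail _ (List.Mem.tail _ (List.Mem.tail _ (List.Mem.tail _ (List.Mem.tail _ (List.Mem.tail _ (List.Mem.tail _ (List.Mem.tail _ (List.Mem.tail _ (List.Mem.tail _ (List.Mem.tail _ (List.Mem.tail _ (List.Mem.head _)))))))))))))
theorem ip5o13 : InR ThM.ok ThM.sem ThM.φ.range p5o13 := p5h0 _ (List.Mem.tail _ (List.Mem.tail _ (List.Mem.tail _ (List.Mem.tail _ (List.Mem.tail _ (List.Mem.tail _ (List.Mem.tail _ (List.Mem.tail _ (List.Mem.tail _ (List.Mem.tail _ (List.Mem.tail _ (List.Mem.tail _ (List.Mem.tail _ (List.Mem.head _))))))))))))))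
theorem ip5o14 : InR ThM.ok ThM.sem ThM.φ.range p5o14 := p5h0 _ (List.Mem.tail _ (List.Mem.tail _ (List.Mem.tail _ (List.Mem.tail _ (List.Mem.tail _ (List.Mem.tail _ (List.Mem.tail _ (List.Mem.tail _ (List.Mem.tail _ (List.Mem.tail _ (List.Mem.tail _ (List.Mem.tail _ (List.Mem.tail _ (List.Mem.tail _ (List.Mem.head _)))))))))))))))
theorem ip5o15 : InR ThM.ok ThM.sem ThM.φ.range p5o15 := p5h0 _ (List.Mem.tail _ (List.Mem.tail _ (List.Mem.tail _ (List.Mem.tail _ (List.Mem.tail _ (List.Mem.tail _ (List.Mem.tail _ (List.Mem.tail _ (List.Mem.tail _ (List.Mem.tail _ (List.Mem.tail _ (List.Mem.tail _ (List.Mem.tail _ (List.Mem.tail _ (List.Mem.tail _ (List.Mem.head _))))))))))))))))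
theorem ip5o16 : InR ThM.ok ThM.sem ThM.φ.range p5o16 := p5h0 _ (List.Mem.tail _ (List.Mem.tail _ (List.Mem.tail _ (List.Mem.tail _ (List.Mem.tail _ (List.Mem.tail _ (List.Mem.tail _ (List.Mem.tail _ (List.Mem.tail _ (List.Mem.tail _ (List.Mem.tail _ (List.Mem.tail _ (List.Mem.tail _ (List.Mem.tail _ (List.Mem.tail _ (List.Mem.tail _ (List.Mem.head _)))))))))))))))))
theorem ip5o17 : InR ThM.ok ThM.sem ThM.φ.range p5o17 := p5h0 _ (List.Mem.tail _ (List.Mem.tail _ (List.Mem.tail _ (List.Mem.tail _ (List.Mem.tail _ (List.Mem.tail _ (List.Mem.tail _ (List.Mem.tail _ (List.Mem.tail _ (List.Mem.tail _ (List.Mem.tail _ (List.Mem.tail _ (List.Mem.tail _ (List.Mem.tail _ (List.Mem.tail _ (List.Mem.tail _ (List.Mem.tail _ (List.Mem.head _))))))))))))))))))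
theorem p5 : 125 ∣ Nat.card ThM.φ.range := MP.slp_dvd ThM.D (forall_app (forall_cons ip5o0 (forall_cons ip5o1 (forall_cons ip5o2 (forall_cons ip5o3 (forall_cons ip5o4 (forall_cons ip5o5 (forall_cons ip5o6 (forall_cons ip5o7 (forall_cons ip5o8 (forall_cons ip5o9 (forall_cons ip5o10 (forall_cons ip5o11 (forall_cons ip5o12 (forall_cons ip5o13 (forall_cons ip5o14 (forall_cons ip5o15 (forall_cons ip5o16 (forall_cons ip5o17 (forall_nil))))))))))))))))))) cols) _ _ _ _ _ p5b1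
end CfH6.ThS
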