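import Cfsg.Agent.OD.Pre
import Cfsg.Agent.H6.ThS.p7D
set_option autoImplicit false
set_option maxRecDepth 100000
set_option Elab.async false
set_option linter.all false
namespace CfH6.ThS
open CfH6
def p7p0 : List (ℕ × ℕ) := [(5, 1), (0, 1), (3, 0), (5, 0), (7, 2), (0, 9), (1, 11), (1, 14), (7, 0), (2, 7), (6, 7), (7, 5), (1, 7), (7, 1), (6, 7), (1, 1), (0, 2), (18, 23), (18, 0), (0, 22), (24, 0), (2, 22), (0, 24), (2, 0), (0, 3), (3, 2), (6, 0), (33, 7), (9, 0), (37, 8), (3, 1), (1, 0), (3, 0), (6, 0), (8, 0), (9, 0), (11, 0), (24, 26), (0, 27), (0, 26), (0, 28), (0, 28), (0, 29), (0, 35), (0, 7), (19, 16), (20, 0), (17, 0), (19, 0), (23, 0), (24, 0), (22, 0), (43, 39), (0, 43), (0, 42), (0, 45), (0, 46), (0, 45), (0, 48), (0, 7), (32, 30), (36, 34), (35, 0), (33, 0), (37, 0), (35, 0), (5, 0), (6, 0), (53, 57), (0, 58), (0, 56), (0, 57), (0, 61), (0, 63), (0, 60), (0, 7), (46, 58), (51, 0), (17,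 0), (52, 0), (53, 0), (51, 0), (58, 0), (22, 0), (73, 76), (0, 72), (0, 76), (0, 73), (0, 76), (0, 75), (0, 79), (0, 7)]
theorem p7b0 : Nat.beq (slp ThM.mm ThM.PM.one p7p0 ([] ++ ThM.ms) (outs ThM.PM.one [(75, p7o0), (47, p7o1), (32, p7o2), (16, p7o3), (0, p7o4)])) 0 = true := by decide +kernel
end CfH6.ThS
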