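import Cfsg.Agent.OD.Pre
import Cfsg.Agent.H6.ThS.p7D
set_option autoImplicit false
set_option maxRecDepth 100000
set_option Elab.async false
set_option linter.all false
namespace CfH6.ThS
open CfH6
def p7L : List CL := [⟨0, 7, [0, 1, 8, 12], nat_lit 0x5000400030002000100000000, 1⟩,
  ⟨7, 7, [0, 1, 3, 5], nat_lit 0xc000b000a00090008000700000000000000000000000000000000, 1⟩]
def p7T : List (ℕ × ℕ) := [(5, nat_lit 0x60504030201), (0, nat_lit 0x70d0c0b0a090806050403020100)]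
def p7p1 : List (ℕ × ℕ) := [(3, 1), (5, 1), (0, 0), (4, 2), (4, 6), (1, 8), (5, 10), (3, 7), (7, 2), (7, 6), (7, 1), (7, 1), (2, 7), (2, 7), (1, 7), (7, 1), (7, 4), (3, 0), (0, 3), (0, 0), (0, 1), (10, 8), (0, 6), (0, 8), (3, 0), (0, 1)]
theorem p7b1 : (ThM.ok p7X && Nat.beq (slp ThM.mm ThM.PM.one p7p1 ([p7o0, p7o1, p7o2, p7o3, p7o4] ++ ThM.ms) (ThM.PM.chkS ThM.mm p7X p7L p7T)) 0 &&
  Nat.beq (p7L.map CL.m).prod 49) = true := by decide +kernel
end CfH6.ThS
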