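import Cfsg.Agent.OD.Pre
import Cfsg.Agent.H6.ThS.p7_0
import Cfsg.Agent.H6.ThS.p7_1
set_option autoImplicit false
set_option maxRecDepth 100000
set_option Elab.async false
set_option linter.all false
namespace CfH6.ThS
open CfH6
theorem p7h0 : ∀ c ∈ [p7o0, p7o1, p7o2, p7o3, p7o4], InR ThM.ok ThM.sem ThM.φ.range c := by
  have := ThM.D.slp_outs (forall_app (forall_nil) cols) _ [(75, p7o0), (47, p7o1), (32, p7o2), (16, p7o3), (0, p7o4)] p7b0
  simp only [List.map_cons, List.map_nil] at this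
  exact this
theorem ip7o0 : InR ThM.ok ThM.sem ThM.φ.range p7o0 := p7h0 _ (List.Mem.head _)
theorem ip7o1 : InR ThM.ok ThM.sem ThM.φ.range p7o1 := p7h0 _ (List.Mem.tail _ (List.Mem.head _))
theorem ip7o2 : InR ThM.ok ThM.sem ThM.φ.range p7o2 := p7h0 _ (List.Mem.tail _ (List.Mem.tail _ (List.Mem.head _)))
theorem ip7o3 : InR ThM.ok ThM.sem ThM.φ.range p7o3 := p7h0 _ (List.Mem.tail _ (List.Mem.tail _ (List.Mem.tail _ (List.Mem.head _))))
theorem ip7o4 : InR ThM.ok ThM.sem ThM.φ.range p7o4 := p7h0 _ (List.Mem.tail _ (List.Mem.tail _ (List.Mem.tail _ (List.Mem.tail _ (List.Mem.head _)))))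
theorem p7 : 49 ∣ Nat.card ThM.φ.range := MP.slp_dvd ThM.D (forall_app (forall_cons ip7o0 (forall_cons ip7o1 (forall_cons ip7o2 (forall_cons ip7o3 (forall_cons ip7o4 (forall_nil)))))) cols) _ _ _ _ _ p7b1
end CfH6.ThS
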